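import Cfsg.Agent.Lib.Spor.TC.Steps
import Cfsg.Agent.Lib.Spor.HeldRecog.Enum.PM.Part0
import Cfsg.Agent.Lib.Spor.HeldRecog.Enum.PM.Part1

/-!
The assembled certificate.
-/

set_option autoImplicit false

namespace CfsgLib.Spor.HeldRecog.Enum.PM

open CfsgLib.Spor.TC

theorem steps_ok : cert.StepsOK 0 9489 :=
  (((steps0.append _ steps2900).append _ steps5800).append _ steps8700)

theorem rows_ok : cert.RowsOK 9489 3072 0 3072 :=
  (rows0.append _ rows2900)

theorem row_zero : cert.rowNode 0 = 0 := by decide +kernel

/-- The certificate, for the relators as powers of words. -/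
noncomputable def cosetCert : CosetCert 5 relsM [] 3072 :=
  ⟨cert, 9489, steps_ok, rows_ok, row_zero, by decide, rfl, rfl, by decide +kernel⟩

end CfsgLib.Spor.HeldRecog.Enum.PM
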